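import Mathlib
import Groth.Prelude.Def_EGA41

/-!
Adic formal smoothness of a local homomorphism essentially of finite type between Noetherian
local rings implies formal smoothness for the discrete topologies (Jacobian criterion + Artin–Rees).
-/

universe u

open IsLocalRing TensorProduct

namespace Groth.Agent.AdicFS

section Artin

variable {P : Type u} [CommRing P] [IsNoetherianRing P]

theorem exists_pow_inf_le (𝔪 I : Ideal P) : ∃ N : ℕ, 𝔪 ^ N ⊓ I ≤ 𝔪 * I := by
  obtain ⟨k, hk⟩ := Ideal.exists_pow_inf_eq_pow_smul 𝔪 (M := P) I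
  refine ⟨k + 1, ?_⟩
  have h := hk (k + 1) (by omega)
  simp only [smul_eq_mul, Ideal.mul_top, Nat.add_sub_cancel_left, pow_one] at h
  rw [h]
  exact Ideal.mul_mono_right inf_le_right

end Artin

section Tensor

variable {P : Type u} [CommRing P]

theorem one_tmul_eq_zero_of_mem_mul {K : Type u} [CommRing K] [Algebra P K] (I 𝔪 : Ideal P)
    (h𝔪 : ∀ a ∈ 𝔪, algebraMap P K a = 0) (y : I) (hy : (y : P) ∈ 𝔪 * I) :
    (1 : K) ⊗ₜ[P] y = 0 := by
  have h1 : y ∈ 𝔪 • (⊤ : Submodule P I) := (Submodule.mem_smul_top_iff 𝔪 I y).mpr hy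
  have h2 : 𝔪 • (⊤ : Submodule P I) ≤ LinearMap.ker (TensorProduct.mk P K I 1) := by
    rw [Submodule.smul_le]
    intro a ha z _
    show (1 : K) ⊗ₜ[P] (a • z) = 0
    rw [← TensorProduct.smul_tmul, Algebra.smul_def, h𝔪 a ha, zero_mul, TensorProduct.zero_tmul]
  exact h2 h1

end Tensor

section Main

variable (R S : Type u) [CommRing R] [CommRing S] [IsLocalRing S] [Algebra R S]

theorem injective_of_adic [IsLocalRing R] [IsLocalHom (algebraMap R S)]
    (h : EGA41.IsFormallySmoothAdic R (maximalIdeal R) S (maximalIdeal S))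
    (P : Type u) [CommRing P] [IsNoetherianRing P] [IsLocalRing P] [Algebra R P] [Algebra P S]
    [IsScalarTower R P S] (h₁ : Function.Surjective (algebraMap P S)) :
    Function.Injective
      (KaehlerDifferential.cotangentComplexBaseChange R S P (ResidueField S)) := by
  classical
  set I : Ideal P := RingHom.ker (algebraMap P S) with hI
  haveI : IsLocalHom (algebraMap P S) := IsLocalHom.of_surjective _ h₁
  obtain ⟨N, hN⟩ := exists_pow_inf_le (maximalIdeal P) I
  have hIm : I ≤ maximalIdeal P := le_maximalIdeal (RingHom.ker_ne_top _)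
  have hKm : ∀ a ∈ maximalIdeal P, algebraMap P (ResidueField S) a = 0 := by
    intro a ha
    rw [IsScalarTower.algebraMap_apply P S (ResidueField S), ResidueField.algebraMap_eq,
      residue_eq_zero_iff]
    exact map_nonunit (algebraMap P S) a ha
  let 𝔞 : Ideal P := I ^ 2 ⊔ maximalIdeal P ^ N
  let J : Ideal (P ⧸ 𝔞) := I.map (Ideal.Quotient.mk 𝔞)
  have hJ : IsNilpotent J := by
    refine ⟨2, ?_⟩
    rw [Submodule.zero_eq_bot, ← Ideal.map_pow, Ideal.map_eq_bot_iff_le_ker, Ideal.mk_ker]
    exact le_sup_left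
  have hRP : (maximalIdeal R).map (algebraMap R P) ≤ maximalIdeal P := by
    rw [Ideal.map_le_iff_le_comap]
    intro r hr hu
    exact map_nonunit (algebraMap R S) r hr
      (by rw [IsScalarTower.algebraMap_apply R P S]; exact hu.map _)
  have hk : ∃ k : ℕ, ((maximalIdeal R) ^ k).map (algebraMap R (P ⧸ 𝔞)) = ⊥ := by
    refine ⟨N, ?_⟩
    rw [IsScalarTower.algebraMap_eq R P (P ⧸ 𝔞), ← Ideal.map_map, Ideal.Quotient.algebraMap_eq,
      Ideal.map_eq_bot_iff_le_ker, Ideal.mk_ker]
    rw [Ideal.map_pow]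
    exact le_sup_of_le_right (Ideal.pow_right_mono hRP N)
  let π : P →ₐ[R] S := IsScalarTower.toAlgHom R P S
  let θ : P →ₐ[R] (P ⧸ 𝔞) ⧸ J :=
    (Ideal.Quotient.mkₐ R J).comp (Ideal.Quotient.mkₐ R 𝔞)
  have hθ : RingHom.ker π.toRingHom ≤ RingHom.ker θ.toRingHom := by
    intro x hx
    exact Ideal.Quotient.eq_zero_iff_mem.mpr (Ideal.mem_map_of_mem _ hx)
  let u : S →ₐ[R] (P ⧸ 𝔞) ⧸ J := π.liftOfSurjective h₁ θ hθ
  have hu : ∀ p, u (algebraMap P S p) = θ p :=
    fun p => AlgHom.liftOfSurjective_apply π h₁ θ hθ p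
  have hu' : ∃ k : ℕ, ∀ x ∈ maximalIdeal S ^ k, u x = 0 := by
    refine ⟨N, fun x hx => ?_⟩
    have hmS : maximalIdeal S = (maximalIdeal P).map (algebraMap P S) :=
      ((congrArg (Ideal.map (algebraMap P S)) (IsLocalRing.eq_maximalIdeal
        (Ideal.comap_isMaximal_of_surjective (algebraMap P S) h₁
          (K := maximalIdeal S))).symm).trans (Ideal.map_comap_of_surjective _ h₁ _)).symm
    rw [hmS, ← Ideal.map_pow, Ideal.mem_map_iff_of_surjective _ h₁] at hx
    obtain ⟨y, hy, rfl⟩ := hx
    rw [hu]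
    have : Ideal.Quotient.mk 𝔞 y = 0 :=
      Ideal.Quotient.eq_zero_iff_mem.mpr (Ideal.mem_sup_right hy)
    show Ideal.Quotient.mk J (Ideal.Quotient.mk 𝔞 y) = 0
    rw [this, map_zero]
  obtain ⟨v, hv⟩ := h (P ⧸ 𝔞) J hJ hk u hu'
  -- the defect of `v` on `P`
  have hdef : ∀ b : P, ∃ i : I, Ideal.Quotient.mk 𝔞 (i : P) =
      v (algebraMap P S b) - Ideal.Quotient.mk 𝔞 b := by
    intro b
    have h2 : Ideal.Quotient.mk J (v (algebraMap P S b) - Ideal.Quotient.mk 𝔞 b) = 0 := by
      rw [map_sub, sub_eq_zero]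
      exact (DFunLike.congr_fun hv _).trans (hu b)
    obtain ⟨i, hi, hi'⟩ :=
      (Ideal.mem_map_iff_of_surjective _ Ideal.Quotient.mk_surjective).mp
        (Ideal.Quotient.eq_zero_iff_mem.mp h2)
    exact ⟨⟨i, hi⟩, hi'⟩
  choose c hc using hdef
  have wd : ∀ i j : I, Ideal.Quotient.mk 𝔞 (i : P) = Ideal.Quotient.mk 𝔞 (j : P) →
      (1 : ResidueField S) ⊗ₜ[P] i = 1 ⊗ₜ[P] j := by
    intro i j hij
    rw [← sub_eq_zero, ← TensorProduct.tmul_sub]
    refine one_tmul_eq_zero_of_mem_mul I (maximalIdeal P) hKm _ ?_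
    have hmem : ((i - j : I) : P) ∈ (I ^ 2 ⊔ maximalIdeal P ^ N) ⊓ I :=
      ⟨Ideal.Quotient.eq.mp hij, (i - j).2⟩
    rw [sup_inf_assoc_of_le _ (Ideal.pow_le_self two_ne_zero)] at hmem
    refine SetLike.le_def.mp (sup_le ?_ hN) hmem
    rw [pow_two]
    exact Ideal.mul_mono_left hIm
  let δfun : P → ResidueField S ⊗[P] I := fun b => (1 : ResidueField S) ⊗ₜ[P] c b
  have δeq : ∀ (b : P) (i : I), Ideal.Quotient.mk 𝔞 (i : P) =
      v (algebraMap P S b) - Ideal.Quotient.mk 𝔞 b → δfun b = 1 ⊗ₜ[P] i :=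
    fun b i hi => wd _ _ ((hc b).trans hi.symm)
  have hadd : ∀ a b, δfun (a + b) = δfun a + δfun b := by
    intro a b
    show _ = (1 : ResidueField S) ⊗ₜ[P] c a + 1 ⊗ₜ[P] c b
    rw [← TensorProduct.tmul_add]
    refine δeq _ _ ?_
    rw [Submodule.coe_add, map_add, hc, hc, map_add, map_add, map_add]
    ring
  have hmul : ∀ a b, δfun (a * b) = a • δfun b + b • δfun a := by
    intro a b
    show _ = a • ((1 : ResidueField S) ⊗ₜ[P] c b) + b • (1 ⊗ₜ[P] c a)
    rw [← TensorProduct.tmul_smul, ← TensorProduct.tmul_smul, ← TensorProduct.tmul_add]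
    refine δeq _ _ ?_
    have hz : (v (algebraMap P S a) - Ideal.Quotient.mk 𝔞 a) *
        (v (algebraMap P S b) - Ideal.Quotient.mk 𝔞 b) = 0 := by
      rw [← hc, ← hc, ← map_mul, Ideal.Quotient.eq_zero_iff_mem]
      exact Ideal.mem_sup_left (by rw [pow_two]; exact Ideal.mul_mem_mul (c a).2 (c b).2)
    rw [Submodule.coe_add, Submodule.coe_smul, Submodule.coe_smul, smul_eq_mul, smul_eq_mul,
      map_add, map_mul, map_mul, hc, hc, map_mul, map_mul, map_mul]
    linear_combination -hz
  have hconst : ∀ r : R, δfun (algebraMap R P r) = 0 := by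
    intro r
    rw [δeq (algebraMap R P r) 0 ?_, TensorProduct.tmul_zero]
    rw [ZeroMemClass.coe_zero, map_zero, ← IsScalarTower.algebraMap_apply R P S, AlgHom.commutes,
      IsScalarTower.algebraMap_apply R P (P ⧸ 𝔞), Ideal.Quotient.algebraMap_eq, sub_self]
  have hzero : δfun 0 = 0 := by
    simpa using hconst 0
  let δl : P →ₗ[R] ResidueField S ⊗[P] I :=
    { toFun := δfun
      map_add' := hadd
      map_smul' := fun r b => by
        rw [Algebra.smul_def, hmul, hconst, smul_zero, add_zero, RingHom.id_apply,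
          IsScalarTower.algebraMap_smul] }
  let δ : Derivation R P (ResidueField S ⊗[P] I) := Derivation.mk' δl hmul
  let g : ResidueField S ⊗[P] Ω[P⁄R] →ₗ[ResidueField S] ResidueField S ⊗[P] I :=
    LinearMap.liftBaseChange _ δ.liftKaehlerDifferential
  have hneg : ∀ i : I, δfun (i : P) = 1 ⊗ₜ[P] (-i) := by
    intro i
    refine δeq _ _ ?_
    have : algebraMap P S (i : P) = 0 := i.2
    rw [this, map_zero, zero_sub, Submodule.coe_neg, map_neg]
  have hcomp : ∀ x, g (KaehlerDifferential.cotangentComplexBaseChange R S P (ResidueField S) x)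
      = -x := by
    intro x
    induction x using TensorProduct.induction_on with
    | zero => simp
    | tmul a i =>
      rw [KaehlerDifferential.cotangentComplexBaseChange_tmul, map_smul,
        KaehlerDifferential.kerToTensor_apply]
      show a • (LinearMap.liftBaseChange _ δ.liftKaehlerDifferential) ((1 : ResidueField S) ⊗ₜ[P] _) = _
      rw [LinearMap.liftBaseChange_tmul, one_smul, Derivation.liftKaehlerDifferential_comp_D]
      show a • δfun (i : P) = _
      rw [hneg, TensorProduct.smul_tmul', smul_eq_mul, mul_one, TensorProduct.tmul_neg]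
    | add x y hx hy => rw [map_add, map_add, hx, hy, neg_add]
  intro x y hxy
  have := congr_arg g hxy
  rw [hcomp, hcomp] at this
  exact neg_injective this

theorem formallySmooth_of_adic [IsLocalRing R] [IsNoetherianRing R] [Algebra.EssFiniteType R S]
    [IsLocalHom (algebraMap R S)]
    (h : EGA41.IsFormallySmoothAdic R (maximalIdeal R) S (maximalIdeal S)) :
    Algebra.FormallySmooth R S := by
  classical
  let s := Algebra.EssFiniteType.finset R S
  let Q := MvPolynomial s R
  let φ : Q →ₐ[R] S := MvPolynomial.aeval (fun x : s => (x : S))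
  let q : Ideal Q := (maximalIdeal S).comap φ.toRingHom
  haveI : q.IsPrime := Ideal.comap_isPrime φ.toRingHom _
  letI : Algebra Q S := φ.toRingHom.toAlgebra
  haveI : IsScalarTower R Q S := IsScalarTower.of_algebraMap_eq fun r => (φ.commutes r).symm
  let P := Localization.AtPrime q
  have hunit : ∀ y : q.primeCompl, IsUnit (algebraMap Q S y) := by
    intro y
    by_contra hu
    exact y.2 (show φ y ∈ maximalIdeal S from hu)
  letI : Algebra P S := (IsLocalization.lift (S := P) (g := algebraMap Q S) hunit).toAlgebra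
  haveI : IsScalarTower Q P S := IsScalarTower.of_algebraMap_eq fun x =>
    (IsLocalization.lift_eq (S := P) hunit x).symm
  haveI : IsScalarTower R P S := IsScalarTower.of_algebraMap_eq fun r => by
    rw [IsScalarTower.algebraMap_apply R Q P, ← IsScalarTower.algebraMap_apply Q P S,
      ← IsScalarTower.algebraMap_apply R Q S]
  have hrange : ∀ a ∈ Algebra.adjoin R (s : Set S), ∃ a' : Q, φ a' = a := by
    intro a ha
    have : Algebra.adjoin R (s : Set S) = φ.range := by
      rw [← Algebra.adjoin_range_eq_range_aeval]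
      congr 1
      simp
    exact (this ▸ ha : a ∈ φ.range)
  have h₁ : Function.Surjective (algebraMap P S) := by
    intro z
    obtain ⟨t, ht, htu, hzt⟩ :=
      (Algebra.essFiniteType_cond_iff R S s).mp (Algebra.EssFiniteType.isLocalization R S) z
    obtain ⟨t', ht'⟩ := hrange t ht
    obtain ⟨w', hw'⟩ := hrange _ hzt
    have htq : t' ∈ q.primeCompl := by
      intro hmem
      have : φ t' ∈ maximalIdeal S := hmem
      rw [ht'] at this
      exact this htu
    refine ⟨IsLocalization.mk' P w' ⟨t', htq⟩, ?_⟩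
    refine (htu.mul_left_inj).mp ?_
    have e1 : algebraMap P S (algebraMap Q P t') = t :=
      (IsScalarTower.algebraMap_apply Q P S t').symm.trans ht'
    rw [← e1, ← map_mul, IsLocalization.mk'_spec P w' ⟨t', htq⟩,
      ← IsScalarTower.algebraMap_apply Q P S, e1]
    exact hw'
  haveI : Algebra.FormallySmooth Q P := Algebra.FormallySmooth.of_isLocalization q.primeCompl
  haveI : Algebra.FormallySmooth R P := Algebra.FormallySmooth.comp R Q P
  haveI : Algebra.FormallyEtale Q P := Algebra.FormallyEtale.of_isLocalization q.primeCompl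
  let e := KaehlerDifferential.tensorKaehlerEquivOfFormallyEtale R Q P
  haveI : Module.Free Q Ω[Q⁄R] := .of_basis (KaehlerDifferential.mvPolynomialBasis R s)
  haveI : Module.Finite Q Ω[Q⁄R] := Module.Finite.of_basis (KaehlerDifferential.mvPolynomialBasis R s)
  haveI : Module.Free P Ω[P⁄R] := Module.Free.of_equiv e
  haveI : Module.Finite P Ω[P⁄R] := Module.Finite.equiv e
  haveI : IsNoetherianRing Q := MvPolynomial.isNoetherianRing
  haveI : IsNoetherianRing P := IsLocalization.isNoetherianRing q.primeCompl P inferInstance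
  rw [Algebra.FormallySmooth.iff_injective_cotangentComplexBaseChange_residueField P h₁
    (IsNoetherian.noetherian _)]
  exact injective_of_adic R S h P h₁

end Main

end Groth.Agent.AdicFS
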